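import Groth.Agent.L23.EtaleMono
import Groth.Agent.L23.RedInd
import Groth.Agent.L23.StLocal
import Groth.Agent.L23.Glue
import Groth.Agent.L23.Compact
import Groth.Agent.L09.Filtration.Enlarge
import Groth.Prelude.Def_AlgSpSub

/-!
# Elementary distinguished squares: equality of maps into the chart
-/

universe u

open CategoryTheory CategoryTheory.Limits AlgebraicGeometry Opposite AlgSp TopologicalSpace

set_option autoImplicit false
set_option linter.style.haveILetI false
set_option backward.isDefEq.respectTransparency false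
set_option backward.isDefEq.respectTransparency.types false

noncomputable section

namespace Groth.L09.ElemSq

open Groth.L23

variable {S : Scheme.{u}}

/-- The inclusion of an open subscheme. -/
abbrev openObj {T : Over S} (O : T.left.Opens) : Over S := Over.mk (O.ι ≫ T.hom)

abbrev openInc {T : Over S} (O : T.left.Opens) : openObj O ⟶ T := Over.homMk O.ι rfl

theorem hom_ext_local {T : Over S} {F : Sp S} {a a' : (yon S).obj T ⟶ F}
    (h : ∀ t : T.left, ∃ O : T.left.Opens, t ∈ O ∧ (yon S).map (openInc O) ≫ a = (yon S).map (openInc O) ≫ a') :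
    a = a' := by
  choose O hO he using h
  haveI : ∀ t, IsOpenImmersion ((fun t => openInc (O t)) t).left := fun t => inferInstanceAs (IsOpenImmersion (O t).ι)
  exact hom_ext_cover (fun t => openInc (O t)) (fun t => ⟨t, ⟨t, hO t⟩, rfl⟩) he

theorem exists_lift_open {A T : Over S} (k : A ⟶ T) [IsOpenImmersion k.left] {R : Over S} (r : R ⟶ T)
    (O : R.left.Opens) (hO : O ≤ r.left ⁻¹ᵁ k.left.opensRange) : ∃ y : openObj O ⟶ A, y ≫ k = openInc O ≫ r := by
  have hr : Set.range (O.ι ≫ r.left) ⊆ Set.range k.left := by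
    rintro _ ⟨x, rfl⟩
    exact hO x.2
  refine ⟨Over.homMk (IsOpenImmersion.lift k.left (O.ι ≫ r.left) hr) ?_, Over.OverMorphism.ext (IsOpenImmersion.lift_fac _ _ _)⟩
  rw [← Over.w k, IsOpenImmersion.lift_fac_assoc]
  show (O.ι ≫ r.left) ≫ T.hom = O.ι ≫ R.hom
  rw [Category.assoc, Over.w]

/-- The disjoint union of two schemes. -/
theorem exists_sum (A B : Over S) : ∃ (G : Over S) (kA : A ⟶ G) (kB : B ⟶ G),
    IsOpenImmersion kA.left ∧ IsOpenImmersion kB.left ∧
      (∀ g : G.left, g ∈ Set.range kA.left ∨ g ∈ Set.range kB.left) ∧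
      (∀ {F : Sp S} (a : (yon S).obj A ⟶ F) (b : (yon S).obj B ⟶ F), ∃ l : (yon S).obj G ⟶ F,
        (yon S).map kA ≫ l = a ∧ (yon S).map kB ≫ l = b) := by
  let W : ULift.{u} Bool → Over S := fun i => bif i.down then A else B
  let G : Over S := Over.mk (Sigma.desc fun i => (W i).hom)
  let k : ∀ i, W i ⟶ G := fun i => Over.homMk (Sigma.ι (fun i => (W i).left) i) (Sigma.ι_desc _ _)
  haveI : ∀ i, IsOpenImmersion (k i).left := fun i => inferInstanceAs (IsOpenImmersion (Sigma.ι (fun i => (W i).left) i))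
  have hcov : ∀ t : G.left, ∃ i w, (k i).left w = t := fun t => by
    obtain ⟨i, w, hw⟩ := (sigmaOpenCover fun i => (W i).left).exists_eq t
    exact ⟨i, w, hw⟩
  refine ⟨G, k ⟨true⟩, k ⟨false⟩, inferInstanceAs (IsOpenImmersion (k ⟨true⟩).left),
    inferInstanceAs (IsOpenImmersion (k ⟨false⟩).left), fun g => ?_, fun {F} a b => ?_⟩
  · obtain ⟨⟨i⟩, w, rfl⟩ := hcov g
    cases i
    · exact Or.inr ⟨w, rfl⟩
    · exact Or.inl ⟨w, rfl⟩
  · let x : ∀ i, (yon S).obj (W i) ⟶ F := fun i => match i with
      | ⟨true⟩ => a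
      | ⟨false⟩ => b
    obtain ⟨l, hl, -⟩ := existsUnique_glue k hcov x fun Z i i' p p' w => by
      by_cases h : IsEmpty Z.left
      · exact hom_ext_of_isEmpty _ _
      · obtain ⟨z⟩ := not_isEmpty_iff.1 h
        have e : (k i).left (p.left z) = (k i').left (p'.left z) := by
          rw [← Scheme.Hom.comp_apply, ← Scheme.Hom.comp_apply, ← Over.comp_left, ← Over.comp_left, w]
        obtain rfl : i = i' := by
          by_contra hii
          exact Set.disjoint_iff_forall_ne.1 (disjoint_opensRange_sigmaι (fun i => (W i).left) i i' hii |>.le_bot |>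
            Set.disjoint_iff.2) ⟨_, rfl⟩ ⟨_, rfl⟩ e
        haveI : Mono ((Over.forget S).map (k i)) := inferInstanceAs (Mono (k i).left)
        haveI : Mono (k i) := (Over.forget S).mono_of_mono_map this
        rw [(cancel_mono (k i)).1 w]
    exact ⟨l, hl ⟨true⟩, hl ⟨false⟩⟩

variable {U V W : Sp S} {j : U ⟶ W} {f : V ⟶ W}

/-- Off the open part the chart is injective on field valued points. -/
theorem eq_off (hsq : IsElemDistSq j f) {K : Type u} [Field K] {w : Spec (CommRingCat.of K) ⟶ S}
    (c c' : (yon S).obj (Over.mk w) ⟶ V) (e : c ≫ f = c' ≫ f)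
    (hoff : ∀ z, Points.ofPt (c ≫ f) z ∉ Set.range (Points.map j)) : c = c' := by
  obtain ⟨-, -, T, P, i, p₁, p₂, ⟨hi, hir, -⟩, sq, hiso⟩ := hsq
  haveI : IsReduced (Over.mk w).left := inferInstanceAs (IsReduced (Spec (CommRingCat.of K)))
  have hred : IsReducedSp ((yon S).obj (Over.mk w)) :=
    ⟨Over.mk w, 𝟙 _, repWith_of_isIso _, repWith_of_isIso _, inferInstance⟩
  obtain ⟨t, ht⟩ := exists_factor_of_range_subset hi hred (c ≫ f) (by
    rintro _ ⟨x, rfl⟩
    obtain ⟨z, rfl⟩ := (Points.schemeEquiv (Over.mk w)).surjective x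
    refine hir.ge ?_
    show Points.map (c ≫ f) (Points.ofScheme (Over.mk w) z) ∈ (Set.range (Points.map j))ᶜ
    rw [← Points.ofPt_eq_map_ofScheme]
    exact hoff z)
  obtain ⟨l, hl, hl'⟩ := sq.exists_lift t c ht
  obtain ⟨l', hl₁, hl₁'⟩ := sq.exists_lift t c' (ht.trans e)
  haveI := hiso
  rw [← hl', ← hl₁', (cancel_mono p₁).1 (hl.trans hl₁.symm)]

/-- Two maps into the chart with equal images agree locally, off the open part. -/
theorem cover_of_eq (hV : IsAlgSpace V) (hW : IsAlgSpace W) (hsq : IsElemDistSq j f) {T : Over S}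
    (x x' : (yon S).obj T ⟶ V) (e : x ≫ f = x' ≫ f) (t : T.left) :
    ∃ O : T.left.Opens, t ∈ O ∧ ((yon S).map (openInc O) ≫ x = (yon S).map (openInc O) ≫ x' ∨
      ∃ u : (yon S).obj (openObj O) ⟶ U, u ≫ j = (yon S).map (openInc O) ≫ x ≫ f) := by
  have hj := hsq.1
  have hopen : IsOpen (Set.range (Points.map j)) := (isOpenMap_map_of_representable hj.1 (fun _ g => by
    haveI : IsOpenImmersion (hj.1.snd g).left := repWith_snd hj g
    exact (hj.1.snd g).left.isOpenEmbedding.isOpenMap)).isOpen_range
  by_cases ht : Points.ofPt (x ≫ f) t ∈ Set.range (Points.map j)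
  · let O : T.left.Opens := ⟨_, hopen.preimage (Points.continuous_ofPt (x ≫ f))⟩
    refine ⟨O, ht, Or.inr ?_⟩
    refine (exists_factor_iff hj _).2 fun z hz => ?_
    rw [range_map_yon] at hz
    obtain ⟨v, rfl⟩ := hz
    rw [ofPt_openMk O (x ≫ f) v]
    exact v.2
  · have hlp : LocP (@LocallyOfFiniteType ⊓ @FormallyUnramified) f := fun A B a b h ha hb w => by
      haveI : Etale h.left := (isEtaleMor_iff_locP hV hW f).1 hsq.2.1 a b h ha hb w
      exact ⟨inferInstance, inferInstance⟩
    have hδ := repWith_isOpenImmersion_diagonal_of_unramified hV hW hlp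
    let g : (yon S).obj T ⟶ pullback f f := pullback.lift x x' e
    have sR := hδ.1.isPullback g
    haveI : IsOpenImmersion (hδ.1.snd g).left := repWith_snd hδ g
    have hmem : t ∈ Set.range (hδ.1.snd g).left := by
      let K := AlgebraicClosure (T.left.residueField t)
      let z : Spec (CommRingCat.of K) ⟶ T.left :=
        Spec.map (CommRingCat.ofHom (algebraMap (T.left.residueField t) K)) ≫ T.left.fromSpecResidueField t
      let y : Over.mk (z ≫ T.hom) ⟶ T := Over.homMk z rfl
      have hz : ∀ q, y.left q = t := fun q => by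
        show T.left.fromSpecResidueField t ((Spec.map (CommRingCat.ofHom (algebraMap (T.left.residueField t) K))) q) = t
        exact Scheme.fromSpecResidueField_apply _ _
      have hc : (yon S).map y ≫ x = (yon S).map y ≫ x' := by
        refine eq_off hsq _ _ ((Category.assoc _ _ _).trans ((congrArg _ e).trans (Category.assoc _ _ _).symm))
          fun q h => ht ?_
        have e1 := (congrArg (fun m => Points.ofPt m q) (Category.assoc ((yon S).map y) x f)).trans
          (ofPt_comp y (x ≫ f) q)
        rw [hz] at e1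
        exact e1 ▸ h
      obtain ⟨r, -, hr⟩ := sR.exists_lift ((yon S).map y ≫ x) ((yon S).map y) (by
        apply pullback.hom_ext <;> simp [g, hc])
      obtain ⟨r₀, rfl⟩ := (yon S).map_surjective r
      rw [← Functor.map_comp] at hr
      exact ⟨r₀.left (IsLocalRing.closedPoint K), by
        rw [← Scheme.Hom.comp_apply, ← Over.comp_left, (yon S).map_injective hr]; exact hz _⟩
    refine ⟨(hδ.1.snd g).left.opensRange, hmem, Or.inl ?_⟩
    obtain ⟨y, hy⟩ := exists_lift_open (hδ.1.snd g) (𝟙 T) (hδ.1.snd g).left.opensRange (le_of_eq (by simp))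
    rw [Category.comp_id] at hy
    have e₁ : hδ.1.fst g = (yon S).map (hδ.1.snd g) ≫ x := by
      simpa [g] using sR.w =≫ pullback.fst f f
    have e₂ : hδ.1.fst g = (yon S).map (hδ.1.snd g) ≫ x' := by
      simpa [g] using sR.w =≫ pullback.snd f f
    rw [← hy, Functor.map_comp, Category.assoc, Category.assoc, ← e₁, ← e₂]

end Groth.L09.ElemSq
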