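import Groth.Agent.L09.ElemSq.Pushout
import Groth.Agent.L09.Where.Inj
import Groth.Agent.L23.AlgSpace
import Groth.Agent.L23.Descent
import Groth.Agent.L23.QFPoints

/-!
# Separatedness is tested on an elementary distinguished square
-/

universe u

open CategoryTheory CategoryTheory.Limits AlgebraicGeometry Opposite AlgSp TopologicalSpace

set_option autoImplicit false
set_option linter.style.haveILetI false
set_option backward.isDefEq.respectTransparency false
set_option backward.isDefEq.respectTransparency.types false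

noncomputable section

namespace Groth.L09.ElemSq

open Groth.L23

variable {S : Scheme.{u}} {A B X Y : Sp S}

/-- The comparison of fibre products over two bases. -/
abbrev cmp (a : A ⟶ X) (b : B ⟶ X) (g : X ⟶ Y) : pullback a b ⟶ pullback (a ≫ g) (b ≫ g) :=
  pullback.map a b (a ≫ g) (b ≫ g) (𝟙 A) (𝟙 B) g (Category.id_comp _).symm (Category.id_comp _).symm

theorem repWith_cmp_of_conj {P : MorphismProperty Scheme.{u}} [P.IsStableUnderBaseChange] [P.IsMultiplicative]
    {a : A ⟶ X} {b : B ⟶ X} {g : X ⟶ Y} {C D : Sp S} {c₁ : C ⟶ A} {c₂ : C ⟶ B} {d₁ : D ⟶ A} {d₂ : D ⟶ B}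
    (sC : IsPullback c₁ c₂ a b) (sD : IsPullback d₁ d₂ (a ≫ g) (b ≫ g)) (m : C ⟶ D) (e₁ : m ≫ d₁ = c₁)
    (e₂ : m ≫ d₂ = c₂) (hm : RepWith P m) : RepWith P (cmp a b g) := by
  have e : cmp a b g = sC.isoPullback.inv ≫ m ≫ sD.isoPullback.hom := by
    rw [Iso.eq_inv_comp]
    apply pullback.hom_ext <;> simp [cmp, pullback.map, e₁, e₂]
  rw [e]
  exact repWith_comp (repWith_of_isIso _) (repWith_comp hm (repWith_of_isIso _))

theorem repWith_cmp_swap {P : MorphismProperty Scheme.{u}} [P.IsStableUnderBaseChange] [P.IsMultiplicative]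
    {a : A ⟶ X} {b : B ⟶ X} {g : X ⟶ Y} (h : RepWith P (cmp a b g)) : RepWith P (cmp b a g) :=
  repWith_cmp_of_conj (IsPullback.of_hasPullback a b).flip (IsPullback.of_hasPullback (a ≫ g) (b ≫ g)).flip
    (cmp a b g) (by simp [cmp, pullback.map]) (by simp [cmp, pullback.map]) h

/-- The pieces determine the base changes of the diagonal. -/
theorem prop_of_factor {P : MorphismProperty Scheme.{u}} [P.IsStableUnderBaseChange] {a : A ⟶ X} {b : B ⟶ X}
    {g : X ⟶ Y} (h : RepWith P (cmp a b g)) {T R : Over S} {k : (yon S).obj T ⟶ pullback g g}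
    {fst : (yon S).obj R ⟶ X} {snd : R ⟶ T} (sR : IsPullback fst ((yon S).map snd) (pullback.diagonal g) k)
    (x : (yon S).obj T ⟶ A) (x' : (yon S).obj T ⟶ B) (e₁ : x ≫ a = k ≫ pullback.fst g g)
    (e₂ : x' ≫ b = k ≫ pullback.snd g g) : P snd.left := by
  let l : (yon S).obj T ⟶ pullback (a ≫ g) (b ≫ g) := pullback.lift x x' (by
    rw [reassoc_of% e₁, reassoc_of% e₂, pullback.condition])
  let n : pullback (a ≫ g) (b ≫ g) ⟶ pullback g g :=
    pullback.map (a ≫ g) (b ≫ g) g g a b (𝟙 Y) (Category.comp_id _) (Category.comp_id _)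
  have hk : l ≫ n = k := by
    apply pullback.hom_ext <;> simp [l, n, pullback.map, e₁, e₂]
  rw [← hk] at sR
  have sN := pullback_map_diagonal_isPullback a b g
  obtain ⟨m, hm, hm'⟩ := sN.exists_lift fst ((yon S).map snd ≫ l) (by rw [Category.assoc]; exact sR.w)
  refine repWith_prop h (?_ : IsPullback m ((yon S).map snd) (cmp a b g) l)
  refine IsPullback.of_right ?_ hm' sN
  rw [hm]
  exact sR

/-- A monomorphism splitting a separated projection followed by an open immersion is an immersion. -/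
theorem repWith_immersion_of_comp_separated {P D E : Sp S} (c : P ⟶ D) (π : D ⟶ E)
    (hπ : RepWith @IsClosedImmersion (pullback.diagonal π)) (hq : RepWith @IsOpenImmersion (c ≫ π)) :
    RepWith @IsImmersion c := by
  let s : P ⟶ pullback (c ≫ π) π := pullback.lift (𝟙 P) c (by simp)
  have hs : RepWith @IsClosedImmersion s := repWith_of_isPullback (pullback_lift_diagonal_isPullback c π) hπ
  have e : c = s ≫ pullback.snd (c ≫ π) π := by simp [s]
  rw [e]
  exact repWith_comp (repWith_mono (fun φ (_ : IsClosedImmersion φ) => inferInstanceAs (IsImmersion φ)) hs)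
    (repWith_mono (fun φ (_ : IsOpenImmersion φ) => inferInstanceAs (IsImmersion φ))
      (repWith_of_isPullback (IsPullback.of_hasPullback (c ≫ π) π) hq))

/-- An immersion with closed image on points is a closed immersion. -/
theorem repWith_closedImmersion_of_isClosed {P D : Sp S} (c : P ⟶ D) (hc : RepWith @IsImmersion c)
    (hcl : IsClosed (Set.range (Points.map c))) : RepWith @IsClosedImmersion c := by
  refine repWith_of_snd hc.1 fun T k => ?_
  haveI : IsImmersion (hc.1.snd k).left := repWith_snd hc k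
  refine IsClosedImmersion.of_isPreimmersion _ ?_
  have e : Set.range (hc.1.snd k).left = Points.ofPt k ⁻¹' Set.range (Points.map c) := by
    ext t
    constructor
    · rintro ⟨r, rfl⟩
      refine ⟨Points.ofPt (hc.1.fst k) r, ?_⟩
      rw [Points.map_ofPt, (hc.1.isPullback k).w]
      exact ofPt_comp (hc.1.snd k) k r
    · rintro ⟨x, hx⟩
      obtain ⟨r, -, hr⟩ := exists_point_of_isPullback (hc.1.isPullback k) (x := x) (u := t) hx
      exact ⟨r, hr⟩
  rw [e]
  exact hcl.preimage (Points.continuous_ofPt k)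

variable {U V W : Sp S}

/-- The criterion. -/
theorem isSeparatedMor_of_cmp (hU : IsAlgSpace U) (hV : IsAlgSpace V) (hX : IsAlgSpace X) (g : X ⟶ Y) (j : U ⟶ X)
    (f : V ⟶ X) (hsq : IsElemDistSq j f) (hUU : RepWith @IsClosedImmersion (cmp j j g))
    (hUV : RepWith @IsClosedImmersion (cmp j f g)) (hVV : RepWith @IsClosedImmersion (cmp f f g)) :
    IsSeparatedMor g := by
  have hVU := repWith_cmp_swap hUV
  obtain ⟨A, aU, hAe, hAs⟩ := hU.atlas
  obtain ⟨B, aV, hBe, hBs⟩ := hV.atlas
  obtain ⟨G, kA, kB, _, _, hcov, d, hdA, hdB, hde, hds⟩ := exists_atlas_sum hX hsq aU hAe hAs aV hBe hBs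
  let b : pullback (d ≫ g) (d ≫ g) ⟶ pullback g g :=
    pullback.map (d ≫ g) (d ≫ g) g g d d (𝟙 Y) (by simp) (by simp)
  haveI : Sheaf.IsLocallySurjective b := isLocallySurjective_of_etale b (Where.repWith_pullback_map hde g)
    (Where.repWith_pullback_map hds g)
  have hΔ : Representable (pullback.diagonal g) := (diagonal_properties hX g).1
  haveI := isLocalAtTarget_fppf (@IsClosedImmersion.{u})
  let a' := pullback.snd (pullback.diagonal g) b
  have sq := IsPullback.of_hasPullback (pullback.diagonal g) b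
  refine repWith_of_locallySurjective hΔ sq (repWith_of_snd
    ((MorphismProperty.of_isPullback sq hΔ : Representable a')) fun T h => ?_)
  set ha' : Representable a' := MorphismProperty.of_isPullback sq hΔ
  set R := ha'.pullback h
  have sR : IsPullback (ha'.fst h ≫ pullback.fst (pullback.diagonal g) b) ((yon S).map (ha'.snd h))
      (pullback.diagonal g) (h ≫ b) := (ha'.isPullback h).paste_horiz sq
  obtain ⟨t₁, ht₁⟩ := (yon S).map_surjective (h ≫ pullback.fst (d ≫ g) (d ≫ g))
  obtain ⟨t₂, ht₂⟩ := (yon S).map_surjective (h ≫ pullback.snd (d ≫ g) (d ≫ g))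
  have hb₁ : (h ≫ b) ≫ pullback.fst g g = (yon S).map t₁ ≫ d := by
    rw [ht₁]; simp [b, pullback.map]
  have hb₂ : (h ≫ b) ≫ pullback.snd g g = (yon S).map t₂ ≫ d := by
    rw [ht₂]; simp [b, pullback.map]
  -- one piece
  have key : ∀ {C C' : Over S} {Z Z' : Sp S} (k : C ⟶ G) (k' : C' ⟶ G) (c : (yon S).obj C ⟶ Z)
      (c' : (yon S).obj C' ⟶ Z') (z : Z ⟶ X) (z' : Z' ⟶ X) [IsOpenImmersion k.left] [IsOpenImmersion k'.left],
      (yon S).map k ≫ d = c ≫ z → (yon S).map k' ≫ d = c' ≫ z' → RepWith @IsClosedImmersion (cmp z z' g) →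
      ∀ t : T.left, t₁.left t ∈ Set.range k.left → t₂.left t ∈ Set.range k'.left →
      ∃ O : T.left.Opens, t ∈ O ∧ IsClosedImmersion (pullback.snd (ha'.snd h).left O.ι) := by
    intro C C' Z Z' k k' c c' z z' _ _ hk hk' hcmp t h₁ h₂
    let O := t₁.left ⁻¹ᵁ k.left.opensRange ⊓ t₂.left ⁻¹ᵁ k'.left.opensRange
    obtain ⟨y, hy⟩ := exists_lift_open k t₁ O inf_le_left
    obtain ⟨y', hy'⟩ := exists_lift_open k' t₂ O inf_le_right
    refine ⟨O, ⟨h₁, h₂⟩, ?_⟩
    have s₀ := IsPullback.of_hasPullback (ha'.snd h) (openInc O)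
    have s₁ := (s₀.map (yon S)).paste_horiz sR
    haveI : IsClosedImmersion (pullback.snd (ha'.snd h) (openInc O)).left :=
      prop_of_factor hcmp s₁ ((yon S).map y ≫ c) ((yon S).map y' ≫ c') (by
        rw [Category.assoc, ← hk, Category.assoc, hb₁, ← Functor.map_comp_assoc, ← Functor.map_comp_assoc, hy])
        (by rw [Category.assoc, ← hk', Category.assoc, hb₂, ← Functor.map_comp_assoc, ← Functor.map_comp_assoc, hy'])
    have s₂ := s₀.map (Over.forget S)
    refine (MorphismProperty.cancel_left_of_respectsIso @IsClosedImmersion s₂.isoPullback.hom _).1 ?_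
    have e : s₂.isoPullback.hom ≫ pullback.snd (ha'.snd h).left O.ι = (pullback.snd (ha'.snd h) (openInc O)).left :=
      s₂.isoPullback_hom_snd
    rw [e]
    infer_instance
  have hall : ∀ t : T.left, ∃ O : T.left.Opens, t ∈ O ∧ IsClosedImmersion (pullback.snd (ha'.snd h).left O.ι) := by
    intro t
    rcases hcov (t₁.left t) with h₁ | h₁ <;> rcases hcov (t₂.left t) with h₂ | h₂
    · exact key kA kA aU aU j j hdA hdA hUU t h₁ h₂
    · exact key kA kB aU aV j f hdA hdB hUV t h₁ h₂
    · exact key kB kA aV aU f j hdB hdA hVU t h₁ h₂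
    · exact key kB kB aV aV f f hdB hdB hVV t h₁ h₂
  choose O hO hci using hall
  refine IsZariskiLocalAtTarget.of_openCover (T.left.openCoverOfIsOpenCover O ?_) hci
  exact eq_top_iff.2 fun t _ => Opens.mem_iSup.2 ⟨t, hO t⟩

end Groth.L09.ElemSq
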