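import Groth.Agent.L09.ElemSq.Basic
import Groth.Agent.L23.Epi
import Groth.Agent.L23.AlgSpace

/-!
# Elementary distinguished squares are pushouts
-/

universe u

open CategoryTheory CategoryTheory.Limits AlgebraicGeometry Opposite AlgSp TopologicalSpace

set_option autoImplicit false
set_option linter.style.haveILetI false
set_option backward.isDefEq.respectTransparency false
set_option backward.isDefEq.respectTransparency.types false

noncomputable section

namespace Groth.L09.ElemSq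

open Groth.L23

variable {S : Scheme.{u}} {U V W P Z : Sp S} {j : U ⟶ W} {f : V ⟶ W} {p : P ⟶ U} {q : P ⟶ V}

theorem compat (hV : IsAlgSpace V) (hW : IsAlgSpace W) (hsq : IsElemDistSq j f) (sP : IsPullback p q j f)
    (a : U ⟶ Z) (b : V ⟶ Z) (hab : p ≫ a = q ≫ b) {T : Over S} (x x' : (yon S).obj T ⟶ V)
    (e : x ≫ f = x' ≫ f) : x ≫ b = x' ≫ b := by
  refine hom_ext_local fun t => ?_
  obtain ⟨O, ht, h | ⟨u, hu⟩⟩ := cover_of_eq hV hW hsq x x' e t
  · exact ⟨O, ht, by rw [reassoc_of% h]⟩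
  · refine ⟨O, ht, ?_⟩
    obtain ⟨l, hl, hl'⟩ := sP.exists_lift u ((yon S).map (openInc O) ≫ x) (hu.trans (Category.assoc _ _ _).symm)
    obtain ⟨l', hl₁, hl₁'⟩ := sP.exists_lift u ((yon S).map (openInc O) ≫ x')
      (hu.trans ((congrArg _ e).trans (Category.assoc _ _ _).symm))
    rw [← Category.assoc, ← hl', ← Category.assoc, ← hl₁', Category.assoc, Category.assoc, ← hab,
      ← Category.assoc, hl, ← Category.assoc, hl₁]

/-- The disjoint union of charts of the two corners is a chart. -/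
theorem exists_atlas_sum (hW : IsAlgSpace W) (hsq : IsElemDistSq j f) {A B : Over S} (aU : (yon S).obj A ⟶ U)
    (hAe : RepWith @Etale aU) (hAs : RepWith @Surjective aU) (aV : (yon S).obj B ⟶ V) (hBe : RepWith @Etale aV)
    (hBs : RepWith @Surjective aV) : ∃ (G : Over S) (kA : A ⟶ G) (kB : B ⟶ G) (_ : IsOpenImmersion kA.left)
      (_ : IsOpenImmersion kB.left) (_ : ∀ g : G.left, g ∈ Set.range kA.left ∨ g ∈ Set.range kB.left)
      (d : (yon S).obj G ⟶ W) (_ : (yon S).map kA ≫ d = aU ≫ j) (_ : (yon S).map kB ≫ d = aV ≫ f),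
      RepWith @Etale d ∧ RepWith @Surjective d := by
  obtain ⟨G, kA, kB, _, _, hcov, hglue⟩ := exists_sum A B
  obtain ⟨d, hdA, hdB⟩ := hglue (aU ≫ j) (aV ≫ f)
  have hj := hsq.1
  let kk : ∀ i : ULift.{u} Bool, (bif i.down then A else B) ⟶ G := fun i => match i with
    | ⟨true⟩ => kA
    | ⟨false⟩ => kB
  haveI : ∀ i, IsOpenImmersion (kk i).left := fun i => match i with
    | ⟨true⟩ => ‹IsOpenImmersion kA.left›
    | ⟨false⟩ => ‹IsOpenImmersion kB.left›
  have hde : RepWith @Etale d := by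
    refine Filtration.repWith_etale_of_cover hW (W := fun i : ULift.{u} Bool => bif i.down then A else B)
      (G := G) kk (fun g => ?_) d fun i => ?_
    · rcases hcov g with ⟨w, hw⟩ | ⟨w, hw⟩
      · exact ⟨⟨true⟩, w, hw⟩
      · exact ⟨⟨false⟩, w, hw⟩
    · match i with
      | ⟨true⟩ =>
        show RepWith @Etale ((yon S).map kA ≫ d)
        rw [hdA]
        exact repWith_comp hAe (repWith_mono (fun φ (_ : IsOpenImmersion φ) => inferInstanceAs (Etale φ)) hj)
      | ⟨false⟩ =>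
        show RepWith @Etale ((yon S).map kB ≫ d)
        rw [hdB]
        exact hsq.2.1 aV hBe
  have hds : RepWith @Surjective d := repWith_surjective_of_map (hW.representable_from_yon d) fun x => by
    have hlift : ∀ (C : Over S) (k : C ⟶ G) {Y : Sp S} (c : (yon S).obj C ⟶ Y) (g : Y ⟶ W),
        (yon S).map k ≫ d = c ≫ g → RepWith @Surjective c → ∀ y, Points.map g y = x →
        ∃ z, Points.map d z = x := by
      intro C k Y c g hk hc y hy
      obtain ⟨w, rfl⟩ := surjective_ofPt hc y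
      refine ⟨Points.map ((yon S).map k) (Points.ofScheme C w), ?_⟩
      rw [← Points.map_comp, hk, Points.map_comp, ← Points.ofPt_eq_map_ofScheme, hy]
    by_cases hx : x ∈ Set.range (Points.map j)
    · obtain ⟨y, hy⟩ := hx
      exact hlift A kA aU j hdA hAs y hy
    · obtain ⟨-, -, T, P', i, p₁, p₂, ⟨-, hir, -⟩, sq, hiso⟩ := hsq
      obtain ⟨t, ht⟩ := hir.ge hx
      haveI := hiso
      refine hlift B kB aV f hdB hBs (Points.map p₂ (Points.map (inv p₁) t)) ?_
      rw [← Points.map_comp, ← Points.map_comp, ← sq.w, IsIso.inv_hom_id_assoc, ht]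
  exact ⟨G, kA, kB, ‹_›, ‹_›, hcov, d, hdA, hdB, hde, hds⟩

theorem exists_desc (hU : IsAlgSpace U) (hV : IsAlgSpace V) (hW : IsAlgSpace W) (hsq : IsElemDistSq j f)
    (sP : IsPullback p q j f) (a : U ⟶ Z) (b : V ⟶ Z) (hab : p ≫ a = q ≫ b) :
    ∃ h : W ⟶ Z, j ≫ h = a ∧ f ≫ h = b ∧ ∀ h', j ≫ h' = a → f ≫ h' = b → h' = h := by
  obtain ⟨A, aU, hAe, hAs⟩ := hU.atlas
  obtain ⟨B, aV, hBe, hBs⟩ := hV.atlas
  obtain ⟨G, kA, kB, _, _, hcov, hglue⟩ := exists_sum A B
  obtain ⟨d, hdA, hdB⟩ := hglue (aU ≫ j) (aV ≫ f)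
  obtain ⟨h₀, h₀A, h₀B⟩ := hglue (aU ≫ a) (aV ≫ b)
  have hj := hsq.1
  haveI := mono_of_repWith_openImmersion hj
  let kk : ∀ i : ULift.{u} Bool, (bif i.down then A else B) ⟶ G := fun i => match i with
    | ⟨true⟩ => kA
    | ⟨false⟩ => kB
  haveI : ∀ i, IsOpenImmersion (kk i).left := fun i => match i with
    | ⟨true⟩ => ‹IsOpenImmersion kA.left›
    | ⟨false⟩ => ‹IsOpenImmersion kB.left›
  have hde : RepWith @Etale d := by
    refine Filtration.repWith_etale_of_cover hW (W := fun i : ULift.{u} Bool => bif i.down then A else B)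
      (G := G) kk (fun g => ?_) d fun i => ?_
    · rcases hcov g with ⟨w, hw⟩ | ⟨w, hw⟩
      · exact ⟨⟨true⟩, w, hw⟩
      · exact ⟨⟨false⟩, w, hw⟩
    · match i with
      | ⟨true⟩ =>
        show RepWith @Etale ((yon S).map kA ≫ d)
        rw [hdA]
        exact repWith_comp hAe (repWith_mono (fun φ (_ : IsOpenImmersion φ) => inferInstanceAs (Etale φ)) hj)
      | ⟨false⟩ =>
        show RepWith @Etale ((yon S).map kB ≫ d)
        rw [hdB]
        exact hsq.2.1 aV hBe
  have hds : RepWith @Surjective d := repWith_surjective_of_map (hW.representable_from_yon d) fun x => by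
    have hlift : ∀ (C : Over S) (k : C ⟶ G) {Y : Sp S} (c : (yon S).obj C ⟶ Y) (g : Y ⟶ W),
        (yon S).map k ≫ d = c ≫ g → RepWith @Surjective c → ∀ y, Points.map g y = x →
        ∃ z, Points.map d z = x := by
      intro C k Y c g hk hc y hy
      obtain ⟨w, rfl⟩ := surjective_ofPt hc y
      refine ⟨Points.map ((yon S).map k) (Points.ofScheme C w), ?_⟩
      rw [← Points.map_comp, hk, Points.map_comp, ← Points.ofPt_eq_map_ofScheme, hy]
    by_cases hx : x ∈ Set.range (Points.map j)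
    · obtain ⟨y, hy⟩ := hx
      exact hlift A kA aU j hdA hAs y hy
    · obtain ⟨-, -, T, P', i, p₁, p₂, ⟨-, hir, -⟩, sq, hiso⟩ := hsq
      obtain ⟨t, ht⟩ := hir.ge hx
      haveI := hiso
      refine hlift B kB aV f hdB hBs (Points.map p₂ (Points.map (inv p₁) t)) ?_
      rw [← Points.map_comp, ← Points.map_comp, ← sq.w, IsIso.inv_hom_id_assoc, ht]
  haveI := epi_of_repWith d hde hds
  obtain ⟨R, r₁, r₂, sR⟩ := exists_isPullback_of_representable hde.1 d
  obtain ⟨hc⟩ := nonempty_isColimit_cofork d sR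
  have hAB : ∀ {T : Over S} (y : T ⟶ A) (y' : T ⟶ B),
      (yon S).map y ≫ aU ≫ j = (yon S).map y' ≫ aV ≫ f →
      (yon S).map y ≫ aU ≫ a = (yon S).map y' ≫ aV ≫ b := by
    intro T y y' e
    obtain ⟨l, hl, hl'⟩ := sP.exists_lift ((yon S).map y ≫ aU) ((yon S).map y' ≫ aV) (by simpa using e)
    rw [← Category.assoc, ← hl, Category.assoc, hab, ← Category.assoc, hl', Category.assoc]
  have hR : (yon S).map r₁ ≫ h₀ = (yon S).map r₂ ≫ h₀ := by
    refine hom_ext_local fun t => ?_
    have hw : ∀ {C C' : Over S} (k : C ⟶ G) (k' : C' ⟶ G) [IsOpenImmersion k.left] [IsOpenImmersion k'.left],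
        r₁.left t ∈ Set.range k.left → r₂.left t ∈ Set.range k'.left →
        (∀ {T : Over S} (y : T ⟶ C) (y' : T ⟶ C'),
          (yon S).map y ≫ (yon S).map k ≫ d = (yon S).map y' ≫ (yon S).map k' ≫ d →
          (yon S).map y ≫ (yon S).map k ≫ h₀ = (yon S).map y' ≫ (yon S).map k' ≫ h₀) →
        ∃ O : R.left.Opens, t ∈ O ∧
          (yon S).map (openInc O) ≫ (yon S).map r₁ ≫ h₀ = (yon S).map (openInc O) ≫ (yon S).map r₂ ≫ h₀ := by
      intro C C' k k' _ _ h₁ h₂ H
      let O := r₁.left ⁻¹ᵁ k.left.opensRange ⊓ r₂.left ⁻¹ᵁ k'.left.opensRange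
      obtain ⟨y, hy⟩ := exists_lift_open k r₁ O inf_le_left
      obtain ⟨y', hy'⟩ := exists_lift_open k' r₂ O inf_le_right
      refine ⟨O, ⟨h₁, h₂⟩, ?_⟩
      have := H y y' (by simp only [← Functor.map_comp_assoc, hy, hy']; simp only [Functor.map_comp, Category.assoc, sR.w])
      simpa only [← Functor.map_comp_assoc, hy, hy'] using this
    rcases hcov (r₁.left t) with h₁ | h₁ <;> rcases hcov (r₂.left t) with h₂ | h₂
    all_goals
      refine hw _ _ h₁ h₂ fun y y' e => ?_
      simp only [hdA, hdB] at e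
      simp only [h₀A, h₀B]
    · rw [← reassoc_of% ((cancel_mono j).1 (by simpa using e) : (yon S).map y ≫ aU = (yon S).map y' ≫ aU)]
    · exact hAB y y' e
    · exact (hAB y' y e.symm).symm
    · simpa using compat hV hW hsq sP a b hab ((yon S).map y ≫ aV) ((yon S).map y' ≫ aV) (by simpa using e)
  obtain ⟨h, hh⟩ := Cofork.IsColimit.desc' hc h₀ hR
  replace hh : d ≫ h = h₀ := hh
  haveI := epi_of_repWith aU hAe hAs
  haveI := epi_of_repWith aV hBe hBs
  refine ⟨h, ?_, ?_, fun h' ha hb => ?_⟩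
  · rw [← cancel_epi aU, ← reassoc_of% hdA, hh, h₀A]
  · rw [← cancel_epi aV, ← reassoc_of% hdB, hh, h₀B]
  · rw [← cancel_epi d, hh]
    refine hom_ext_local fun g => ?_
    have key : ∀ {C : Over S} (k : C ⟶ G) [IsOpenImmersion k.left], g ∈ Set.range k.left →
        (yon S).map k ≫ d ≫ h' = (yon S).map k ≫ h₀ →
        ∃ O : G.left.Opens, g ∈ O ∧ (yon S).map (openInc O) ≫ d ≫ h' = (yon S).map (openInc O) ≫ h₀ := by
      intro C k _ hg H
      obtain ⟨y, hy⟩ := exists_lift_open k (𝟙 G) k.left.opensRange (fun x hx => hx)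
      rw [Category.comp_id] at hy
      exact ⟨k.left.opensRange, hg, by simp only [← hy, Functor.map_comp, Category.assoc, H]⟩
    rcases hcov g with hg | hg
    · exact key kA hg (by rw [reassoc_of% hdA, ha, h₀A])
    · exact key kB hg (by rw [reassoc_of% hdB, hb, h₀B])

end Groth.L09.ElemSq
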